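/-
helper24, project BT (= S2154, sheet of helper35), module BT-[UJ-FIL] (hedge; primary claim helper50):
`exists_fil_unipotentRadical_h24` = the exact sheet statement under a hedge name.  Own copy of [FIL-INV]
(`fil_inv_h24`, exact sheet statement under a hedge name) included.
-/
import Cfsg.Agent.Lib.Helper35.BT.Defs
import Cfsg.Agent.Lib.Helper34.BT.FilX
import Cfsg.Agent.Lib.Helper34.BT.RootBExact

set_option autoImplicit false

namespace Cfsg.Agent.Lib.Helper24.BT

open Cfsg Cfsg.Lie Cfsg.Agent.Lib.Helper18 Cfsg.Agent.Lib.Helper61.ChevJ Matrix Cfsg.Agent.Lib.Helper35.BT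

universe u

variable {D : ChevalleyDatum} {F : Type u} [Field F]

/-- `Fil y c (u - 1)` is closed under products (`c ≥ 0`). -/
theorem fil_mul_sub_one (X : JData.{u} D) (y : Y D) (c : ℝ) (hc : 0 ≤ c) (M N : Matrix D.Idx D.Idx F)
    (hM : Fil X y c (M - 1)) (hN : Fil X y c (N - 1)) : Fil X y c (M * N - 1) := by
  have e : M * N - 1 = (M - 1) * (N - 1) + (M - 1) + (N - 1) := by noncomm_ring
  rw [e]
  exact (((hM.mul hN).mono (by linarith)).add hM).add hN

theorem fil_pow_sub_one (X : JData.{u} D) (y : Y D) (c : ℝ) (hc : 0 ≤ c) (g : GL D.Idx F)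
    (h : Fil X y c ((g : Matrix D.Idx D.Idx F) - 1)) (k : ℕ) :
    Fil X y c (((g ^ k : GL D.Idx F) : Matrix D.Idx D.Idx F) - 1) := by
  induction k with
  | zero =>
    rw [pow_zero, Units.val_one, sub_self]
    exact Fil.zero y c
  | succ k ih =>
    rw [pow_succ, Units.val_mul]
    exact fil_mul_sub_one X y c hc _ _ ih h

/-- BT-[FIL-INV], hedge copy of the exact sheet statement. -/
theorem fil_inv_h24 [Finite F] (X : JData.{u} D) (y : Y D) (c : ℝ) (hc : 0 < c) (g : GL D.Idx F)
    (h : Fil X y c ((g : Matrix D.Idx D.Idx F) - 1)) :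
    Fil X y c (((g⁻¹ : GL D.Idx F) : Matrix D.Idx D.Idx F) - 1) := by
  haveI : Finite (GL D.Idx F) := Finite.of_injective (fun u : GL D.Idx F => (u : Matrix D.Idx D.Idx F)) Units.val_injective
  have hpos : 0 < orderOf g := (isOfFinOrder_of_finite g).orderOf_pos
  have e : g⁻¹ = g ^ (orderOf g - 1) := by
    apply inv_eq_of_mul_eq_one_left
    rw [← pow_succ, Nat.sub_add_cancel hpos, pow_orderOf_eq_one]
  rw [e]
  exact fil_pow_sub_one X y c hc.le g h _

/-- BT-[UJ-FIL], hedge copy of the exact sheet statement. -/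
theorem exists_fil_unipotentRadical_h24 [Finite F]
    (hD : D ∈ [chevG2, chevB2, chevD4, chevF4, chevE6, chevE7, chevE8]) (X : JData.{u} D) (y : Y D)
    (hy : Dom y) :
    ∃ c : ℝ, 0 < c ∧ ∀ u ∈ D.unipotentRadical F (Jof y), Fil X y c ((u : Matrix D.Idx D.Idx F) - 1) := by
  classical
  -- the finite set of the positive roots outside `Φ_J`
  let P : Finset ℕ := (Finset.range D.nroots).filter fun r => D.IsPosRoot r ∧ ¬ D.InRootSub (Jof y) r
  have hP : ∀ r, D.IsPosRoot r → ¬ D.InRootSub (Jof y) r → r ∈ P := by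
    intro r hr hn
    have hlt : r < D.nroots := ((isPosRoot_iff hD r).mp hr).1
    exact Finset.mem_filter.mpr ⟨Finset.mem_range.mpr hlt, hr, hn⟩
  -- the constant
  obtain ⟨c, hc, hcle⟩ : ∃ c : ℝ, 0 < c ∧ ∀ r ∈ P, c ≤ om X y r := by
    by_cases hne : P.Nonempty
    · refine ⟨P.inf' hne (om X y), ?_, fun r hr => Finset.inf'_le _ hr⟩
      rw [Finset.lt_inf'_iff]
      intro r hr
      obtain ⟨-, hr1, hr2⟩ := Finset.mem_filter.mp hr
      exact om_pos X y hy r hr1 hr2
    · rw [Finset.not_nonempty_iff_eq_empty] at hne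
      exact ⟨1, one_pos, fun r hr => by rw [hne] at hr; exact absurd hr (Finset.notMem_empty r)⟩
  refine ⟨c, hc, ?_⟩
  intro u hu
  unfold ChevalleyDatum.unipotentRadical at hu
  induction hu using Subgroup.closure_induction with
  | mem g hg =>
    obtain ⟨r, t, hr1, hr2, hgx⟩ := hg
    have hlt : r < D.nroots := ((isPosRoot_iff hD r).mp hr1).1
    have h1 : c ≤ om X y r := hcle r (hP r hr1 hr2)
    rw [hgx]
    exact (fil_x hD X y r hlt t (le_trans hc.le h1)).mono h1
  | one =>
    rw [Units.val_one, sub_self]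
    exact Fil.zero y c
  | mul g₁ g₂ _ _ h1 h2 =>
    rw [Units.val_mul]
    exact fil_mul_sub_one X y c hc.le _ _ h1 h2
  | inv g _ h1 => exact fil_inv_h24 X y c hc g h1

end Cfsg.Agent.Lib.Helper24.BT
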